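import Groth.Agent.Lib.AmpleBun15.Space
import Groth.Agent.Lib.GITHM15.Ratio
import Groth.Agent.Lib.GITQuot.Descend
import Groth.Agent.Lib.FlatH4.PullChart

/-!
# The linearised bundle pulled back along an invariant morphism
-/

set_option autoImplicit false
set_option linter.style.haveILetI false
set_option backward.isDefEq.respectTransparency false
universe u

open CategoryTheory CategoryTheory.Limits MonoidalCategory CartesianMonoidalCategory MonObj AlgebraicGeometry
  TopologicalSpace Opposite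

noncomputable section

namespace Groth.Agent.AmpleBun15

section Maps

variable {A B : Scheme.{u}} (f : A ⟶ B)

theorem appLE_res {U U' : B.Opens} {V : A.Opens} (h : U' ≤ U) (e : V ≤ f ⁻¹ᵁ U') (x : Γ(B, U)) :
    f.appLE U' V e (B.presheaf.map (homOfLE h).op x) = f.appLE U V (e.trans (f.preimage_mono h)) x :=
  ConcreteCategory.congr_hom (Scheme.Hom.map_appLE f e (homOfLE h).op) x

theorem res_appLE {U : B.Opens} {V V' : A.Opens} (h : V' ≤ V) (e : V ≤ f ⁻¹ᵁ U) (x : Γ(B, U)) :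
    A.presheaf.map (homOfLE h).op (f.appLE U V e x) = f.appLE U V' (h.trans e) x :=
  ConcreteCategory.congr_hom (Scheme.Hom.appLE_map f e (homOfLE h).op) x

theorem appLE_appLE {C : Scheme.{u}} (g : B ⟶ C) {U : C.Opens} {V : B.Opens} {W : A.Opens}
    (e₁ : V ≤ g ⁻¹ᵁ U) (e₂ : W ≤ f ⁻¹ᵁ V) (x : Γ(C, U)) :
    f.appLE V W e₂ (g.appLE U V e₁ x) = (f ≫ g).appLE U W (e₂.trans (f.preimage_mono e₁)) x := by
  rw [← Scheme.Hom.appLE_comp_appLE f g U V W e₁ e₂]
  rfl

end Maps

variable {k : Type u} [Field k] {G X Y : Over (Spec (CommRingCat.of k))} [GrpObj G]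

set_option maxHeartbeats 1600000 in
/-- A weight function on the base gives an invariant section on the pullback. -/
theorem exists_linBun {M : Y.left.Modules} (D : Space M) (a : AlgGrp.Action G X) (φ : X ⟶ Y)
    (hφ : GIT.IsInvariant a φ) [IsAffineHom φ.left] :
    ∃ B : GLinSh.LinBun G a, ∀ (n : ℕ) (s : Coh.structureModule Y.left ⟶ CohB1.tensorPow M n),
      ∃ f : Γ(B.V.left, ⊤), B.IsInvSection n f ∧
        GLinSh.nonvanishing B.π f = φ.left.base ⁻¹' (CohB1.genLocus _ s : Set Y.left) := by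
  let V := pullback φ D.p
  let π : V ⟶ X := pullback.fst φ D.p
  let q : V ⟶ D.W := pullback.snd φ D.p
  have sq : IsPullback π q φ D.p := IsPullback.of_hasPullback φ D.p
  obtain ⟨Φ, hΦπ, hΦq⟩ := GITQuot.exists_pullback_action hφ sq
  have hw : π.left ≫ φ.left = q.left ≫ D.p.left := congrArg CommaMorphism.left sq.w
  have sq' : IsPullback π.left q.left φ.left D.p.left := sq.map (Over.forget _)
  haveI := D.atlas.affine
  haveI hπaff : IsAffineHom π.left := MorphismProperty.of_isPullback sq'.flip inferInstance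
  have hle : ∀ {U : X.left.Opens} {U' : Y.left.Opens}, U ≤ φ.left ⁻¹ᵁ U' →
      π.left ⁻¹ᵁ U ≤ q.left ⁻¹ᵁ (D.p.left ⁻¹ᵁ U') := fun {U U'} h => by
    rw [← Scheme.Hom.comp_preimage, ← hw, Scheme.Hom.comp_preimage]
    exact π.left.preimage_mono h
  -- transport of functions
  let Q : ∀ {U : X.left.Opens} {U' : Y.left.Opens}, U ≤ φ.left ⁻¹ᵁ U' →
      Γ(D.W.left, D.p.left ⁻¹ᵁ U') →+* Γ(V.left, π.left ⁻¹ᵁ U) := fun h => (q.left.appLE _ _ (hle h)).hom
  have hQp : ∀ {U : X.left.Opens} {U' : Y.left.Opens} (h : U ≤ φ.left ⁻¹ᵁ U') (c : Γ(Y.left, U')),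
      Q h (D.p.left.app U' c) = π.left.app U (φ.left.appLE U' U h c) := fun {U U'} h c => by
    show q.left.appLE _ _ _ (D.p.left.app U' c) = _
    rw [Scheme.Hom.app_eq_appLE, Scheme.Hom.app_eq_appLE, appLE_appLE, appLE_appLE]
    exact ConcreteCategory.congr_hom (by congr 1; exact hw.symm) c
  have hQres : ∀ {U U₂ : X.left.Opens} {U' U₂' : Y.left.Opens} (h : U ≤ φ.left ⁻¹ᵁ U')
      (h₂ : U₂ ≤ φ.left ⁻¹ᵁ U₂') (hU : U₂ ≤ U) (hU' : U₂' ≤ U') (y : Γ(D.W.left, D.p.left ⁻¹ᵁ U')),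
      GLinSh.res π hU (Q h y) = Q h₂ (GLinSh.res D.p hU' y) := fun {U U₂ U' U₂'} h h₂ hU hU' y => by
    show V.left.presheaf.map _ (q.left.appLE _ _ _ y) = q.left.appLE _ _ _ (D.W.left.presheaf.map _ y)
    rw [res_appLE, appLE_res]
  let chart : ∀ U : X.left.Opens, Set Γ(V.left, π.left ⁻¹ᵁ U) := fun U =>
    {y | ∃ (U' : Y.left.Opens) (h : U = φ.left ⁻¹ᵁ U') (y' : Γ(D.W.left, D.p.left ⁻¹ᵁ U')),
      y' ∈ D.atlas.chart U' ∧ y = Q h.le y'}
  let A : GLinSh.LinAtlas π :=
    { affine := hπaff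
      chart := chart
      cover := fun x => by
        obtain ⟨U', hxU', y', hy'⟩ := D.atlas.cover (φ.left x)
        exact ⟨φ.left ⁻¹ᵁ U', hxU', Q le_rfl y', U', rfl, y', hy', rfl⟩
      coord := by
        rintro U y ⟨U', rfl, y', hy', rfl⟩ W₀ hW₀ hWU
        have hU' : IsAffineOpen U' := D.chart_affine U' y' hy'
        let e := RingEquiv.ofBijective _ (D.atlas.coord U' y' hy' U' hU' le_rfl)
        have heC : ∀ c, e (Polynomial.C c) = D.p.left.app U' c := fun c => by simp [e]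
        have heX : e Polynomial.X = y' := by
          simp only [e, RingEquiv.ofBijective_apply, Polynomial.coe_eval₂RingHom, Polynomial.eval₂_X]
          exact ConcreteCategory.congr_hom (D.W.left.presheaf.map_id (op (D.p.left ⁻¹ᵁ U'))) y'
        have hpo := FlatH4.isPushout_sections sq' (US := U') (UT := D.p.left ⁻¹ᵁ U') (UX := W₀) le_rfl hWU
          (UY := π.left ⁻¹ᵁ W₀) (le_antisymm (le_inf le_rfl (hle hWU)) inf_le_left) hU'
          (hU'.preimage D.p.left) hW₀
        let ψ := Polynomial.eval₂RingHom (π.left.app W₀).hom (GLinSh.res π hWU (Q le_rfl y'))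
        let l₁ : Γ(X.left, W₀) →+* Polynomial Γ(X.left, W₀) := Polynomial.C
        let l₂ : Γ(D.W.left, D.p.left ⁻¹ᵁ U') →+* Polynomial Γ(X.left, W₀) :=
          (Polynomial.mapRingHom (φ.left.appLE U' W₀ hWU).hom).comp e.symm.toRingHom
        have hcomm : (φ.left.appLE U' W₀ hWU) ≫ CommRingCat.ofHom l₁ =
            D.p.left.appLE U' (D.p.left ⁻¹ᵁ U') le_rfl ≫ CommRingCat.ofHom l₂ := by
          rw [← Scheme.Hom.app_eq_appLE]
          refine CommRingCat.hom_ext (RingHom.ext fun c => ?_)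
          show Polynomial.C (φ.left.appLE U' W₀ hWU c) =
            Polynomial.mapRingHom (φ.left.appLE U' W₀ hWU).hom (e.symm (D.p.left.app U' c))
          rw [← heC, RingEquiv.symm_apply_apply]
          simp
        let d := hpo.desc (CommRingCat.ofHom l₁) (CommRingCat.ofHom l₂) hcomm
        have hd₁ : ∀ c, d (π.left.app W₀ c) = Polynomial.C c := fun c => by
          rw [Scheme.Hom.app_eq_appLE]
          exact ConcreteCategory.congr_hom (hpo.inl_desc _ _ hcomm) c
        have hd₂ : ∀ z, d (Q hWU z) = l₂ z := fun z => ConcreteCategory.congr_hom (hpo.inr_desc _ _ hcomm) z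
        have hy0 : GLinSh.res π hWU (Q le_rfl y') = Q hWU y' := by
          rw [hQres le_rfl hWU hWU le_rfl]
          congr 1
          exact ConcreteCategory.congr_hom (D.W.left.presheaf.map_id (op (D.p.left ⁻¹ᵁ U'))) y'
        have h1 : CommRingCat.ofHom ψ ≫ d = 𝟙 _ := by
          refine CommRingCat.hom_ext (Polynomial.ringHom_ext (fun c => ?_) ?_)
          · show d (ψ (Polynomial.C c)) = _
            rw [Polynomial.coe_eval₂RingHom, Polynomial.eval₂_C]
            exact hd₁ c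
          · show d (ψ Polynomial.X) = _
            rw [Polynomial.coe_eval₂RingHom, Polynomial.eval₂_X, hy0, hd₂]
            show Polynomial.mapRingHom _ (e.symm y') = Polynomial.X
            rw [← heX, RingEquiv.symm_apply_apply]
            simp
        have h2 : d ≫ CommRingCat.ofHom ψ = 𝟙 _ := by
          refine hpo.hom_ext ?_ ?_
          · rw [← Category.assoc, hpo.inl_desc, Category.comp_id, ← Scheme.Hom.app_eq_appLE]
            ext c
            show ψ (Polynomial.C c) = _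
            simp [ψ]
          · rw [← Category.assoc, hpo.inr_desc, Category.comp_id]
            ext z
            show ψ (l₂ z) = Q hWU z
            have : (ψ.comp (Polynomial.mapRingHom (φ.left.appLE U' W₀ hWU).hom)) =
                (Q hWU).comp e.toRingHom := by
              refine Polynomial.ringHom_ext (fun c => ?_) ?_
              · show ψ (Polynomial.mapRingHom _ (Polynomial.C c)) = Q hWU (e (Polynomial.C c))
                rw [heC, hQp hWU]
                simp [ψ]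
              · show ψ (Polynomial.mapRingHom _ Polynomial.X) = Q hWU (e Polynomial.X)
                rw [heX, ← hy0]
                simp [ψ]
            exact (RingHom.congr_fun this (e.symm z)).trans (congrArg (Q hWU) (e.apply_symm_apply z))
        exact Function.bijective_iff_has_inverse.2 ⟨d,
          fun z => ConcreteCategory.congr_hom h1 z, fun z => ConcreteCategory.congr_hom h2 z⟩
      linear := by
        rintro U U₂ y y₂ ⟨U', rfl, y', hy', rfl⟩ ⟨U₂', rfl, y₂', hy₂', rfl⟩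
        obtain ⟨c, hc, hcy⟩ := D.atlas.linear U' U₂' y' y₂' hy' hy₂'
        have hZ : φ.left ⁻¹ᵁ U' ⊓ φ.left ⁻¹ᵁ U₂' ≤ φ.left ⁻¹ᵁ (U' ⊓ U₂') := le_rfl
        refine ⟨φ.left.appLE _ _ hZ c, hc.map _, ?_⟩
        rw [hQres le_rfl hZ inf_le_right inf_le_right, hQres le_rfl hZ inf_le_left inf_le_left, hcy, map_mul, hQp] }
  have hlin : GLinSh.IsLinearLift a π Φ A.chart hΦπ := by
    rintro U U₂ y y₂ ⟨U', rfl, y', hy', rfl⟩ ⟨U₂', rfl, y₂', hy₂', rfl⟩
    obtain ⟨c, -, hcy⟩ := D.atlas.linear U' U₂' y' y₂' hy' hy₂'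
    let O := a.act.left ⁻¹ᵁ (φ.left ⁻¹ᵁ U₂') ⊓ (snd G X).left ⁻¹ᵁ (φ.left ⁻¹ᵁ U')
    let L := GLinSh.liftOpen a π (φ.left ⁻¹ᵁ U') (φ.left ⁻¹ᵁ U₂')
    have hO : O ≤ ((snd G X).left ≫ φ.left) ⁻¹ᵁ (U' ⊓ U₂') := by
      rintro z ⟨h1, h2⟩
      refine ⟨h2, ?_⟩
      show ((snd G X).left ≫ φ.left) z ∈ U₂'
      rw [← hφ.left]
      exact h1
    refine ⟨((snd G X).left ≫ φ.left).appLE (U' ⊓ U₂') O hO c, ?_⟩
    show Φ.act.left.appLE _ L _ (q.left.appLE _ _ _ y₂') =
      (G ◁ π).left.appLE O L _ _ * (snd G V).left.appLE _ L _ (q.left.appLE _ _ _ y')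
    rw [appLE_appLE, appLE_appLE, appLE_appLE]
    have e1 : Φ.act.left ≫ q.left = (snd G V).left ≫ q.left := congrArg CommaMorphism.left hΦq
    have e2 : (G ◁ π).left ≫ (snd G X).left ≫ φ.left = ((snd G V).left ≫ q.left) ≫ D.p.left := by
      rw [← Category.assoc, ← Over.comp_left, whiskerLeft_snd, Over.comp_left, Category.assoc, hw, Category.assoc]
    let m := (snd G V).left ≫ q.left
    have hL : L ≤ m ⁻¹ᵁ (D.p.left ⁻¹ᵁ (U' ⊓ U₂')) := by
      rw [← Scheme.Hom.comp_preimage, ← e2, Scheme.Hom.comp_preimage]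
      exact (GLinSh.liftOpen_le_base a π).trans ((G ◁ π).left.preimage_mono hO)
    have key : m.appLE _ L (hL.trans (m.preimage_mono (D.p.left.preimage_mono inf_le_right))) y₂' =
        (m ≫ D.p.left).appLE (U' ⊓ U₂') L hL c *
          m.appLE _ L (hL.trans (m.preimage_mono (D.p.left.preimage_mono inf_le_left))) y' := by
      rw [← appLE_res m (D.p.left.preimage_mono inf_le_right) hL,
        ← appLE_res m (D.p.left.preimage_mono inf_le_left) hL]
      refine (congrArg (m.appLE _ L hL) hcy).trans ?_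
      rw [map_mul]
      congr 1
    have t : ∀ {f g : (G ⊗ V).left ⟶ D.W.left} (_ : f = g) (U : D.W.left.Opens) (e : L ≤ f ⁻¹ᵁ U)
        (e' : L ≤ g ⁻¹ᵁ U) (x : Γ(D.W.left, U)), f.appLE U L e x = g.appLE U L e' x := by
      rintro f g rfl U e e' x; rfl
    have t' : ∀ {f g : (G ⊗ V).left ⟶ Y.left} (_ : f = g) (U : Y.left.Opens) (e : L ≤ f ⁻¹ᵁ U)
        (e' : L ≤ g ⁻¹ᵁ U) (x : Γ(Y.left, U)), f.appLE U L e x = g.appLE U L e' x := by
      rintro f g rfl U e e' x; rfl
    rw [t e1, t' e2]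
    exact key
  let B : GLinSh.LinBun G a := ⟨V, π, A, Φ, hΦπ, hlin⟩
  refine ⟨B, fun n s => ?_⟩
  obtain ⟨f, hfw, hfs⟩ := D.sections n s
  let fV : Γ(V.left, ⊤) := q.left.appTop f
  have hres : ∀ {U : X.left.Opens} {U' : Y.left.Opens} (h : U ≤ φ.left ⁻¹ᵁ U'),
      GLinSh.resTop π U fV = Q h (GLinSh.resTop D.p U' f) := fun {U U'} h => by
    show V.left.presheaf.map _ (q.left.appTop f) = q.left.appLE _ _ _ (D.W.left.presheaf.map _ f)
    rw [show q.left.appTop f = q.left.appLE ⊤ ⊤ le_rfl f from ConcreteCategory.congr_hom q.left.app_eq_appLE f,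
      res_appLE, appLE_res]
  have hcoef : ∀ {U : X.left.Opens} {U' : Y.left.Opens} (h : U = φ.left ⁻¹ᵁ U')
      (y' : Γ(D.W.left, D.p.left ⁻¹ᵁ U')) (c : Γ(Y.left, U')),
      GLinSh.resTop D.p U' f = D.p.left.app U' c * y' ^ n →
        GLinSh.resTop π U fV = π.left.app U (φ.left.appLE U' U h.le c) * Q h.le y' ^ n := fun {U U'} h y' c hc => by
    rw [hres h.le, hc, map_mul, map_pow, hQp]
  have hw' : GLinSh.HasWeight A.chart n fV := by
    rintro U y ⟨U', h, y', hy', rfl⟩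
    obtain ⟨c, hc⟩ := hfw U' y' hy'
    exact ⟨_, hcoef h y' c hc⟩
  refine ⟨fV, ⟨hw', ?_⟩, ?_⟩
  · show Φ.act.left.appTop fV = (snd G V).left.appTop fV
    show (Φ.act ≫ q).left.appTop f = (snd G V ≫ q).left.appTop f
    rw [show Φ.act ≫ q = snd G V ≫ q from hΦq]
  · rw [← GITHM15.coe_nv B hw']
    ext z
    obtain ⟨U', hzU', y', hy'⟩ := D.atlas.cover (φ.left z)
    obtain ⟨c, hc⟩ := hfw U' y' hy'
    have hy : Q le_rfl y' ∈ B.atlas.chart (φ.left ⁻¹ᵁ U') := ⟨U', rfl, y', hy', rfl⟩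
    have h1 := GITHM15.nv_inf B hy ((GITHM15.coef_iff B).2 (hcoef rfl y' c hc))
    have h2 := hfs U' y' hy' c hc
    have h3 : X.left.basicOpen (φ.left.appLE U' (φ.left ⁻¹ᵁ U') le_rfl c) = φ.left ⁻¹ᵁ Y.left.basicOpen c := by
      rw [← Scheme.Hom.app_eq_appLE, Scheme.preimage_basicOpen]
    constructor
    · intro hz
      have hz' : z ∈ φ.left ⁻¹ᵁ Y.left.basicOpen c := h3 ▸ h1 ▸ (show z ∈ φ.left ⁻¹ᵁ U' ⊓ GITHM15.nv B n fV from ⟨hzU', hz⟩)
      exact (h2.ge hz').2
    · intro hz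
      have hz' : φ.left z ∈ Y.left.basicOpen c := h2.le ⟨hzU', hz⟩
      exact (h1.ge (h3.ge hz')).2

end Groth.Agent.AmpleBun15
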