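import Groth.Agent.Lib.SymAlg11.LinePow
import Groth.Agent.Lib.SymAlg11.LineSections
import Groth.Agent.Lib.VeryAmple11.SymGr
import Groth.Agent.Lib.RelSpecB.Basic
import Groth.Agent.Lib.Twist.Pullback
import Groth.Prelude.Def_GLinSh

/-!
# The total space of an invertible module and the functions of its sections
-/

set_option autoImplicit false
set_option linter.style.haveILetI false
set_option backward.isDefEq.respectTransparency false
universe u

open CategoryTheory CategoryTheory.Limits MonoidalCategory CartesianMonoidalCategory AlgebraicGeometry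
  TopologicalSpace Opposite

noncomputable section

namespace Groth.Agent.AmpleBun15

open SymAlg11

variable {S : Scheme.{u}} {Y : Over S}

/-- A line bundle over `Y` in total space form with a weight function for every section of a power of a module. -/
structure Space (M : Y.left.Modules) where
  /-- the total space -/
  W : Over S
  /-- the projection -/
  p : W ⟶ Y
  /-- the atlas -/
  atlas : GLinSh.LinAtlas p
  chart_affine : ∀ (U : Y.left.Opens) (y : Γ(W.left, p.left ⁻¹ᵁ U)), y ∈ atlas.chart U → IsAffineOpen U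
  sections : ∀ (n : ℕ) (s : Coh.structureModule Y.left ⟶ CohB1.tensorPow M n), ∃ f : Γ(W.left, ⊤),
    GLinSh.HasWeight atlas.chart n f ∧ ∀ (U : Y.left.Opens) (y : Γ(W.left, p.left ⁻¹ᵁ U)), y ∈ atlas.chart U →
      ∀ c : Γ(Y.left, U), GLinSh.resTop p U f = p.left.app U c * y ^ n →
        U ⊓ CohB1.genLocus _ s = Y.left.basicOpen c

variable {M : Y.left.Modules} (hM : PicF.IsInvertible M)

include hM in
/-- Invertible modules have total spaces. -/
theorem nonempty_space : Nonempty (Space M) := by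
  have hMq : Coh.IsQCoh M := Twist.isQCoh_of_isInvertible hM
  obtain ⟨𝒮L, j, hj⟩ : ∃ (𝒮L : RelProj.QCGrAlg Y.left) (j : M ⟶ 𝒮L.toModule), RelProj.IsGrSymAlg M 𝒮L j :=
    ⟨_, _, VA11.isGrSymAlg_symGr hMq⟩
  let 𝒜 := 𝒮L.toQCAlg
  let W : Over S := Over.mk (𝒜.π ≫ Y.hom)
  let p : W ⟶ Y := Over.homMk 𝒜.π rfl
  let γm : ∀ U : Y.left.Opens, Γ(W.left, p.left ⁻¹ᵁ U) →+* 𝒜.presheaf.obj (op U) := fun U =>
    (𝒜.gammaMap.app (op U)).hom
  have hbij : ∀ U, Function.Bijective (γm U) := fun U => by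
    haveI := RelSpecB.isIso_gammaMap 𝒜
    haveI : IsIso (𝒜.gammaMap.app (op U)) := inferInstance
    exact ConcreteCategory.bijective_of_isIso (𝒜.gammaMap.app (op U))
  have hstr : ∀ U (c : Γ(Y.left, U)), γm U (p.left.app U c) = (𝒜.str.app (op U)).hom c := fun U c =>
    ConcreteCategory.congr_hom (NatTrans.congr_app 𝒜.π_c_gammaMap (op U)) c
  have hres : ∀ {U V : Y.left.Opens} (h : V ≤ U) (y : Γ(W.left, p.left ⁻¹ᵁ U)),
      γm V (GLinSh.res p h y) = gres 𝒮L h (γm U y) := fun h y =>
    ConcreteCategory.congr_hom (𝒜.gammaMap.naturality (homOfLE h).op) y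
  let chart : ∀ U : Y.left.Opens, Set Γ(W.left, p.left ⁻¹ᵁ U) := fun U =>
    {y | IsAffineOpen U ∧ ∃ e : Γ(M, U), M2.IsGenerator e ∧ γm U y = tgen j U e}
  let A : GLinSh.LinAtlas p :=
    { affine := inferInstanceAs (IsAffineHom 𝒜.π)
      chart := chart
      cover := fun x => by
        obtain ⟨U, e, hxU, -, hU, he⟩ := Amp.exists_isGenerator hM (V := (⊤ : Y.left.Opens)) (x := x) trivial
        obtain ⟨y, hy⟩ := (hbij U).2 (tgen j U e)
        exact ⟨U, hxU, y, hU, e, he, hy⟩
      coord := by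
        rintro U y ⟨-, e, he, hy⟩ W₀ hW₀ hle
        have h1 := bijective_poly hMq hj hW₀ (isGenerator_mres he hle)
        have h2 : (γm W₀).comp (Polynomial.eval₂RingHom (p.left.app W₀).hom (GLinSh.res p hle y)) =
            Polynomial.eval₂RingHom (𝒮L.str.app (op W₀)).hom (tgen j W₀ (M1.mres M hle e)) := by
          refine Polynomial.ringHom_ext (fun c => ?_) ?_
          · rw [RingHom.comp_apply, Polynomial.coe_eval₂RingHom, Polynomial.coe_eval₂RingHom, Polynomial.eval₂_C,
              Polynomial.eval₂_C]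
            exact hstr W₀ c
          · rw [RingHom.comp_apply, Polynomial.coe_eval₂RingHom, Polynomial.coe_eval₂RingHom, Polynomial.eval₂_X,
              Polynomial.eval₂_X, hres, hy, gres_tgen]
        exact (Function.Bijective.of_comp_iff' (hbij W₀) _).1 (by rw [← RingHom.coe_comp, h2]; exact h1)
      linear := by
        rintro U U' y y' ⟨-, e, he, hy⟩ ⟨-, e', he', hy'⟩
        let Z := U ⊓ U'
        obtain ⟨c, hc⟩ := (he Z inf_le_left).2 (M1.mres M (inf_le_right : Z ≤ U') e')
        obtain ⟨d, hd⟩ := (he' Z inf_le_right).2 (M1.mres M (inf_le_left : Z ≤ U) e)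
        refine ⟨c, IsUnit.of_mul_eq_one d ((he Z inf_le_left).1 ?_), (hbij Z).1 ?_⟩
        · have hd' : d • M1.mres M (inf_le_right : Z ≤ U') e' = M1.mres M inf_le_left e := hd
          have hc' : c • M1.mres M (inf_le_left : Z ≤ U) e = M1.mres M inf_le_right e' := hc
          show (c * d) • M1.mres M (inf_le_left : Z ≤ U) e = (1 : Γ(Y.left, Z)) • M1.mres M inf_le_left e
          rw [one_smul, mul_comm, mul_smul, hc', hd']
        · rw [map_mul, hstr, hres, hres, hy, hy', gres_tgen, gres_tgen]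
          have hc' : c • M1.mres M (inf_le_left : Z ≤ U) e = M1.mres M inf_le_right e' := hc
          rw [← hc']
          exact j.app_smul c _ }
  refine ⟨⟨W, p, A, fun U y h => h.1, fun n s => ?_⟩⟩
  obtain ⟨G, hG⟩ : ∃ G : (⊤ : Y.left.Opens).toScheme.Opens,
      (⊤ : Y.left.Opens).ι ''ᵁ G = CohB1.genLocus _ s ∧ Amp.HasSec (M.restrict (⊤ : Y.left.Opens).ι) n G :=
    ⟨(⊤ : Y.left.Opens).ι ⁻¹ᵁ CohB1.genLocus _ s, by
      rw [Scheme.Hom.image_preimage_eq_opensRange_inf, Scheme.Opens.opensRange_ι, top_inf_eq],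
      (Amp.HasSec.pullback (⊤ : Y.left.Opens).ι hM ⟨s, rfl⟩).map_iso
        ((Scheme.Modules.restrictFunctorIsoPullback (⊤ : Y.left.Opens).ι).app M).symm⟩
  obtain ⟨c, hcH, hcnv⟩ := exists_sec_of_hasSec hMq hj hM ⊤ hG.2
  obtain ⟨f, hf⟩ := (hbij ⊤).2 c
  have htop : ∀ U : Y.left.Opens, γm U (GLinSh.resTop p U f) = gres 𝒮L le_top c := fun U => by
    rw [← hf]
    exact hres (le_top : U ≤ ⊤) f
  refine ⟨f, ?_, ?_⟩
  · rintro U y ⟨hU, e, he, hy⟩
    obtain ⟨a, ha⟩ := exists_eq_of_mem hMq hj hU he (hcH U hU le_top)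
    exact ⟨a, (hbij U).1 (by rw [htop, ha, map_mul, map_pow, hstr, hy])⟩
  · rintro U y ⟨hU, e, he, hy⟩ a ha
    have ha' := congrArg (γm U) ha
    rw [htop, map_mul, map_pow, hstr, hy] at ha'
    ext x
    rw [← hG.1, ← hcnv]
    constructor
    · rintro ⟨hxU, hx⟩
      exact (mem_nv_iff hMq hj hU le_top he ha' hxU).1 hx
    · exact fun hx => ⟨Y.left.basicOpen_le a hx,
        (mem_nv_iff hMq hj hU le_top he ha' (Y.left.basicOpen_le a hx)).2 hx⟩

end Groth.Agent.AmpleBun15
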